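import Cfsg.Agent.Lib.Helper19.SPU.Defs

/-!
# SPU packages [DEC1N] and [DEC2N] (S2316): normalised orthogonal Fitting decompositions
-/

set_option autoImplicit false

namespace Cfsg.Agent.Lib.Helper38.SPU

open Matrix Cfsg.Agent.Lib.Helper19.SPU

universe u

section

variable {F : Type u} [Field F] {α β : Type} [Fintype α] [DecidableEq α] [Fintype β]
  [DecidableEq β]

omit [DecidableEq α] [DecidableEq β] in
theorem fromBlocks_diag_mul (A A' : Matrix α α F) (B B' : Matrix β β F) :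
    fromBlocks A 0 0 B * fromBlocks A' 0 0 B' = fromBlocks (A * A') 0 0 (B * B') := by
  rw [Matrix.fromBlocks_multiply]
  simp

omit [Fintype α] [DecidableEq α] [Fintype β] [DecidableEq β] in
theorem fromBlocks_diag_transpose (A : Matrix α α F) (B : Matrix β β F) :
    (fromBlocks A 0 0 B)ᵀ = fromBlocks Aᵀ 0 0 Bᵀ := by
  rw [Matrix.fromBlocks_transpose]
  simp

theorem isSymp_fromBlocks {K₁ : Matrix α α F} {K₂ : Matrix β β F} (h1 : IsSymp K₁)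
    (h2 : IsSymp K₂) : IsSymp (fromBlocks K₁ 0 0 K₂) := by
  obtain ⟨a1, b1, c1⟩ := h1
  obtain ⟨a2, b2, c2⟩ := h2
  refine ⟨?_, ?_, ?_⟩
  · rw [fromBlocks_diag_transpose, a1, a2, Matrix.fromBlocks_neg]
    simp
  · rintro (i | i)
    · rw [Matrix.fromBlocks_apply₁₁]
      exact b1 i
    · rw [Matrix.fromBlocks_apply₂₂]
      exact b2 i
  · obtain ⟨u1, rfl⟩ := c1
    obtain ⟨u2, rfl⟩ := c2
    refine ⟨⟨fromBlocks (u1 : Matrix α α F) 0 0 (u2 : Matrix β β F),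
      fromBlocks ((u1⁻¹ : (Matrix α α F)ˣ) : Matrix α α F) 0 0
        ((u2⁻¹ : (Matrix β β F)ˣ) : Matrix β β F), ?_, ?_⟩, rfl⟩
    · rw [fromBlocks_diag_mul, Units.mul_inv, Units.mul_inv, Matrix.fromBlocks_one]
    · rw [fromBlocks_diag_mul, Units.inv_mul, Units.inv_mul, Matrix.fromBlocks_one]

variable {n : Type} [Fintype n] [DecidableEq n]

theorem isom_conj {K' K g S T : Matrix n n F} (hST : S * T = 1) (hS : Sᵀ * K' * S = K)
    (hg : Isom K' g) : Isom K (T * g * S) := by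
  unfold Isom at *
  rw [← hS, Matrix.transpose_mul, Matrix.transpose_mul]
  have h1 : Tᵀ * Sᵀ = 1 := by rw [← Matrix.transpose_mul, hST, Matrix.transpose_one]
  calc Sᵀ * (gᵀ * Tᵀ) * (Sᵀ * K' * S) * (T * g * S)
      = Sᵀ * gᵀ * (Tᵀ * Sᵀ) * K' * (S * T) * g * S := by simp only [Matrix.mul_assoc]
    _ = Sᵀ * (gᵀ * K' * g) * S := by
        rw [h1, hST]
        simp only [Matrix.mul_assoc, Matrix.mul_one]
    _ = Sᵀ * K' * S := by rw [hg]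

theorem affA_conj {K' K X S T : Matrix n n F} (hST : S * T = 1) (hS : Sᵀ * K' * S = K)
    (hX : AffA K' X) : AffA K (T * X * S) := by
  unfold AffA at *
  rw [← hS, Matrix.transpose_mul, Matrix.transpose_mul]
  have h1 : Tᵀ * Sᵀ = 1 := by rw [← Matrix.transpose_mul, hST, Matrix.transpose_one]
  calc Sᵀ * (Xᵀ * Tᵀ) * (Sᵀ * K' * S) + Sᵀ * K' * S * (T * X * S) + Sᵀ * K' * S
      = Sᵀ * Xᵀ * (Tᵀ * Sᵀ) * K' * S + Sᵀ * K' * (S * T) * X * S + Sᵀ * K' * S := by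
        simp only [Matrix.mul_assoc]
    _ = Sᵀ * (Xᵀ * K' + K' * X + K') * S := by
        rw [h1, hST]
        simp only [Matrix.mul_assoc, Matrix.mul_one, Matrix.mul_add, Matrix.add_mul]
    _ = 0 := by rw [hX, Matrix.mul_zero, Matrix.zero_mul]

theorem conj_pow {S T : Matrix n n F} (hST : S * T = 1) (hTS : T * S = 1) (A : Matrix n n F)
    (k : ℕ) : (T * A * S) ^ k = T * A ^ k * S := by
  induction k with
  | zero => simp [hTS]
  | succ k ih =>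
    rw [pow_succ, ih, pow_succ]
    calc T * A ^ k * S * (T * A * S) = T * A ^ k * (S * T) * A * S := by
          simp only [Matrix.mul_assoc]
      _ = T * (A ^ k * A) * S := by
          rw [hST, Matrix.mul_one]
          simp only [Matrix.mul_assoc]

theorem conj_nilp {S T : Matrix n n F} (hST : S * T = 1) (hTS : T * S = 1) {A : Matrix n n F}
    (hA : IsNilpotent A) : IsNilpotent (T * A * S) := by
  obtain ⟨k, hk⟩ := hA
  exact ⟨k, by rw [conj_pow hST hTS, hk, Matrix.mul_zero, Matrix.zero_mul]⟩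

theorem conj_unit {S T : Matrix n n F} (hST : S * T = 1) (hTS : T * S = 1) {A : Matrix n n F}
    (hA : IsUnit A) : IsUnit (T * A * S) :=
  (IsUnit.mul (IsUnit.mul ⟨⟨T, S, hTS, hST⟩, rfl⟩ hA) ⟨⟨S, T, hST, hTS⟩, rfl⟩)

theorem conj_sub_one {S T : Matrix n n F} (hTS : T * S = 1) (A : Matrix n n F) :
    T * A * S - 1 = T * (A - 1) * S := by
  rw [Matrix.mul_sub, Matrix.sub_mul, Matrix.mul_one, hTS]

theorem conj_sq_add {S T : Matrix n n F} (hST : S * T = 1) (A : Matrix n n F) :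
    T * A * S * (T * A * S) + T * A * S = T * (A * A + A) * S := by
  rw [Matrix.mul_add, Matrix.add_mul]
  congr 1
  calc T * A * S * (T * A * S) = T * A * (S * T) * A * S := by simp only [Matrix.mul_assoc]
    _ = T * (A * A) * S := by
        rw [hST, Matrix.mul_one]
        simp only [Matrix.mul_assoc]

end

theorem pkgDec1N : PkgDec1.{u} → PkgCong.{u} → PkgDec1N.{u} := by
  intro hDec hCong F _ α β _ _ _ _ K₁ K₂ g hK1 hK2 hg hr
  obtain ⟨P, K₁', K₂', g₁', g₂', hK1', hK2', hP, hgP, hI1, hI2, hN, hU⟩ :=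
    hDec F α β (fromBlocks K₁ 0 0 K₂) g (isSymp_fromBlocks hK1 hK2) hg hr
  obtain ⟨S₁, T₁, hST1, hTS1, hS1⟩ := hCong F α α K₁' K₁ hK1' hK1 rfl
  obtain ⟨S₂, T₂, hST2, hTS2, hS2⟩ := hCong F β β K₂' K₂ hK2' hK2 rfl
  have hD : fromBlocks S₁ 0 0 S₂ * fromBlocks T₁ 0 0 T₂ =
      (1 : Matrix (α ⊕ β) (α ⊕ β) F) := by
    rw [fromBlocks_diag_mul, hST1, hST2, Matrix.fromBlocks_one]
  have hD' : fromBlocks T₁ 0 0 T₂ * fromBlocks S₁ 0 0 S₂ =
      (1 : Matrix (α ⊕ β) (α ⊕ β) F) := by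
    rw [fromBlocks_diag_mul, hTS1, hTS2, Matrix.fromBlocks_one]
  have hPD : ((P * (⟨fromBlocks S₁ 0 0 S₂, fromBlocks T₁ 0 0 T₂, hD, hD'⟩ : GL (α ⊕ β) F) :
      GL (α ⊕ β) F) : Matrix (α ⊕ β) (α ⊕ β) F) = P.val * fromBlocks S₁ 0 0 S₂ := rfl
  refine ⟨P * ⟨fromBlocks S₁ 0 0 S₂, fromBlocks T₁ 0 0 T₂, hD, hD'⟩, T₁ * g₁' * S₁,
    T₂ * g₂' * S₂, ?_, ?_, isom_conj hST1 hS1 hI1, isom_conj hST2 hS2 hI2, ?_, ?_⟩
  · unfold Isom
    rw [hPD, Matrix.transpose_mul]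
    have e : (fromBlocks S₁ 0 0 S₂)ᵀ * P.valᵀ * fromBlocks K₁ 0 0 K₂ *
        (P.val * fromBlocks S₁ 0 0 S₂) =
        (fromBlocks S₁ 0 0 S₂)ᵀ * (P.valᵀ * fromBlocks K₁ 0 0 K₂ * P.val) *
          fromBlocks S₁ 0 0 S₂ := by
      simp only [Matrix.mul_assoc]
    rw [e, hP, fromBlocks_diag_transpose, fromBlocks_diag_mul, fromBlocks_diag_mul, hS1, hS2]
  · rw [hPD, ← Matrix.mul_assoc, hgP, Matrix.mul_assoc, Matrix.mul_assoc, fromBlocks_diag_mul,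
      fromBlocks_diag_mul]
    have e1 : S₁ * (T₁ * g₁' * S₁) = g₁' * S₁ := by
      rw [← Matrix.mul_assoc, ← Matrix.mul_assoc, hST1, Matrix.one_mul]
    have e2 : S₂ * (T₂ * g₂' * S₂) = g₂' * S₂ := by
      rw [← Matrix.mul_assoc, ← Matrix.mul_assoc, hST2, Matrix.one_mul]
    rw [e1, e2]
  · rw [conj_sub_one hTS1]
    exact conj_nilp hST1 hTS1 hN
  · rw [conj_sub_one hTS2]
    exact conj_unit hST2 hTS2 hU

theorem pkgDec2N : PkgDec2.{u} → PkgCong.{u} → PkgDec2N.{u} := by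
  intro hDec hCong F _ α β _ _ _ _ K₁ K₂ X hK1 hK2 hX hr
  obtain ⟨P, K₁', K₂', X₁', X₂', hK1', hK2', hP, hXP, hI1, hI2, hN, hU⟩ :=
    hDec F α β (fromBlocks K₁ 0 0 K₂) X (isSymp_fromBlocks hK1 hK2) hX hr
  obtain ⟨S₁, T₁, hST1, hTS1, hS1⟩ := hCong F α α K₁' K₁ hK1' hK1 rfl
  obtain ⟨S₂, T₂, hST2, hTS2, hS2⟩ := hCong F β β K₂' K₂ hK2' hK2 rfl
  have hD : fromBlocks S₁ 0 0 S₂ * fromBlocks T₁ 0 0 T₂ =
      (1 : Matrix (α ⊕ β) (α ⊕ β) F) := by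
    rw [fromBlocks_diag_mul, hST1, hST2, Matrix.fromBlocks_one]
  have hD' : fromBlocks T₁ 0 0 T₂ * fromBlocks S₁ 0 0 S₂ =
      (1 : Matrix (α ⊕ β) (α ⊕ β) F) := by
    rw [fromBlocks_diag_mul, hTS1, hTS2, Matrix.fromBlocks_one]
  have hPD : ((P * (⟨fromBlocks S₁ 0 0 S₂, fromBlocks T₁ 0 0 T₂, hD, hD'⟩ : GL (α ⊕ β) F) :
      GL (α ⊕ β) F) : Matrix (α ⊕ β) (α ⊕ β) F) = P.val * fromBlocks S₁ 0 0 S₂ := rfl
  refine ⟨P * ⟨fromBlocks S₁ 0 0 S₂, fromBlocks T₁ 0 0 T₂, hD, hD'⟩, T₁ * X₁' * S₁,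
    T₂ * X₂' * S₂, ?_, ?_, affA_conj hST1 hS1 hI1, affA_conj hST2 hS2 hI2, ?_, ?_⟩
  · unfold Isom
    rw [hPD, Matrix.transpose_mul]
    have e : (fromBlocks S₁ 0 0 S₂)ᵀ * P.valᵀ * fromBlocks K₁ 0 0 K₂ *
        (P.val * fromBlocks S₁ 0 0 S₂) =
        (fromBlocks S₁ 0 0 S₂)ᵀ * (P.valᵀ * fromBlocks K₁ 0 0 K₂ * P.val) *
          fromBlocks S₁ 0 0 S₂ := by
      simp only [Matrix.mul_assoc]
    rw [e, hP, fromBlocks_diag_transpose, fromBlocks_diag_mul, fromBlocks_diag_mul, hS1, hS2]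
  · rw [hPD, ← Matrix.mul_assoc, hXP, Matrix.mul_assoc, Matrix.mul_assoc, fromBlocks_diag_mul,
      fromBlocks_diag_mul]
    have e1 : S₁ * (T₁ * X₁' * S₁) = X₁' * S₁ := by
      rw [← Matrix.mul_assoc, ← Matrix.mul_assoc, hST1, Matrix.one_mul]
    have e2 : S₂ * (T₂ * X₂' * S₂) = X₂' * S₂ := by
      rw [← Matrix.mul_assoc, ← Matrix.mul_assoc, hST2, Matrix.one_mul]
    rw [e1, e2]
  · rw [conj_sq_add hST1]
    exact conj_nilp hST1 hTS1 hN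
  · exact conj_unit hST2 hTS2 hU

end Cfsg.Agent.Lib.Helper38.SPU
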